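import Groth.Agent.Lib.Cyc.LengthFormula
import Mathlib.RingTheory.KrullDimension.Regular
import Mathlib.RingTheory.Filtration
import Mathlib.RingTheory.Ideal.AssociatedPrime.Finiteness

/-!
# Specialisation of lengths along a regular element
-/

set_option autoImplicit false
set_option linter.style.haveILetI false
universe u

open Pointwise IsLocalRing

namespace Groth.Agent.H25.Special.Algebra

variable {R : Type u} [CommRing R] [IsNoetherianRing R] [IsLocalRing R]
  {M : Type u} [AddCommGroup M] [Module R M] [Module.Finite R M] {x : R}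

/-- An associated prime cut down to the closed point by a regular element gives an embedded
closed point in the quotient. -/
theorem maximal_mem_ass (hx : x ∈ maximalIdeal R) (hreg : ∀ v : M, x • v = 0 → v = 0)
    {p : Ideal R} (hp : p ∈ associatedPrimes R M)
    (hmin : ∀ q : Ideal R, q.IsPrime → p ≤ q → x ∈ q → q = maximalIdeal R) :
    IsAssociatedPrime (maximalIdeal R) (M ⧸ x • (⊤ : Submodule R M)) := by
  classical
  obtain ⟨hpp, v, hv⟩ := isAssociatedPrime_iff.1 hp
  have hmem : ∀ a, a ∈ p ↔ a • v = 0 := fun a => by rw [hv]; simp [Submodule.mem_colon_singleton]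
  have hv0 : v ≠ 0 := fun h => hpp.ne_top ((Ideal.eq_top_iff_one p).2 ((hmem 1).2 (by simp [h])))
  have hex : ∃ a : ℕ, ¬ ∃ y, x ^ a • y = v := by
    by_contra hc
    push Not at hc
    refine hv0 ((Submodule.mem_bot R).1 ?_)
    rw [← Ideal.iInf_pow_smul_eq_bot_of_isLocalRing (M := M) (maximalIdeal R)
      (maximalIdeal.isMaximal R).ne_top, Submodule.mem_iInf]
    intro a
    obtain ⟨y, hy⟩ := hc a
    rw [← hy]
    exact Submodule.smul_mem_smul (Ideal.pow_mem_pow hx a) trivial
  obtain ⟨a, ha⟩ := Nat.exists_eq_succ_of_ne_zero (n := Nat.find hex)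
    (fun h => Nat.find_spec hex (by rw [h]; exact ⟨v, by simp⟩))
  obtain ⟨y, hy⟩ : ∃ y, x ^ a • y = v := not_not.1 (Nat.find_min hex (by omega))
  have hy0 : (Submodule.Quotient.mk y : M ⧸ x • (⊤ : Submodule R M)) ≠ 0 := by
    rw [Ne, Submodule.Quotient.mk_eq_zero, Submodule.mem_smul_pointwise_iff_exists]
    rintro ⟨z, -, hz⟩
    refine (ha ▸ Nat.find_spec hex) ⟨z, ?_⟩
    rw [pow_succ, mul_smul, hz, hy]
  have hregpow : ∀ (n : ℕ) (w : M), x ^ n • w = 0 → w = 0 := fun n => by
    induction n with
    | zero => simp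
    | succ n ih => exact fun w hw => ih w (hreg _ (by rwa [← mul_smul, ← pow_succ']))
  obtain ⟨q, hq, hle⟩ := exists_le_isAssociatedPrime_of_isNoetherianRing R
    (Submodule.Quotient.mk y : M ⧸ x • (⊤ : Submodule R M)) hy0
  have hsub : ∀ r : R, r • (Submodule.Quotient.mk y : M ⧸ x • (⊤ : Submodule R M)) = 0 → r ∈ q :=
    fun r hr => hle (by simpa [Submodule.mem_colon_singleton] using hr)
  have hqm : q = maximalIdeal R := by
    refine hmin q hq.1 (fun r hr => hsub r ?_) (hsub x ?_)
    · have h1 : r • y = 0 := hregpow a _ (by rw [smul_comm, hy]; exact (hmem r).1 hr)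
      rw [← Submodule.Quotient.mk_smul, h1, Submodule.Quotient.mk_zero]
    · rw [← Submodule.Quotient.mk_smul, Submodule.Quotient.mk_eq_zero]
      exact Submodule.smul_mem_pointwise_smul _ _ _ trivial
  exact hqm ▸ hq

open Lib.Cyc.LengthFormula in
/-- The lengths at the primes away from `x` add up to at most the length of `M/xM`. -/
theorem sum_le (hx : x ∈ maximalIdeal R) (hreg : ∀ v : M, x • v = 0 → v = 0)
    (h0 : ∀ p ∈ Module.support R M, x ∈ p.asIdeal → p.asIdeal = maximalIdeal R)
    (s : Finset (PrimeSpectrum R)) (hs : ∀ p ∈ s, p.asIdeal ≠ maximalIdeal R) :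
    ∑ p ∈ s, Module.length (Localization.AtPrime p.asIdeal)
        (LocalizedModule p.asIdeal.primeCompl M) ≤
      Module.length R (M ⧸ x • (⊤ : Submodule R M)) := by
  classical
  have hsupp : ∀ p ∈ Module.support R (M ⧸ x • (⊤ : Submodule R M)),
      p = closedPoint R := by
    intro p hp
    rw [← Submodule.ideal_span_singleton_smul, Module.support_quotient] at hp
    refine PrimeSpectrum.ext (h0 p hp.1 ?_)
    exact hp.2 (Ideal.mem_span_singleton_self x)
  have hd0 : Module.supportDim R (M ⧸ x • (⊤ : Submodule R M)) ≤ 0 := by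
    haveI : Subsingleton (Module.support R (M ⧸ x • (⊤ : Submodule R M))) :=
      ⟨fun a b => Subtype.ext ((hsupp a.1 a.2).trans (hsupp b.1 b.2).symm)⟩
    exact Order.krullDim_nonpos_of_subsingleton
  have hd1 : Module.supportDim R M ≤ 1 := by
    refine (Module.supportDim_le_supportDim_quotSMulTop_succ_of_mem_jacobson (x := x) ?_).trans ?_
    · exact maximalIdeal_le_jacobson (Module.annihilator R M) hx
    · calc Module.supportDim R (QuotSMulTop x M) + 1 ≤ 0 + 1 := add_le_add hd0 le_rfl
        _ = 1 := zero_add 1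
  have hH : Hyp M x := hyp_of_supportDim hd1 hd0
  have hker : LinearMap.ker (LinearMap.lsmul R M x) = ⊥ :=
    LinearMap.ker_eq_bot'.2 fun v hv => hreg v hv
  rw [length_quot_eq hH, hker, Module.length_bot, zero_add, total]
  simp only [finsum_eq_if]
  have hfin : (Function.support fun p : PrimeSpectrum R =>
      if p.asIdeal ≠ maximalIdeal R then term M x p else 0).Finite := by
    refine hH.finite.subset fun p hp => ?_
    rw [Function.mem_support, ite_ne_right_iff] at hp
    exact ⟨by_contra fun hn => hp.2 (term_eq_zero M x p hn), hp.1⟩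
  rw [finsum_eq_sum_of_support_subset _ (s := hfin.toFinset ∪ s) (fun p hp =>
    Finset.mem_coe.2 (Finset.mem_union_left _ (hfin.mem_toFinset.2 hp)))]
  refine le_trans (Finset.sum_le_sum fun p hp => ?_)
    (Finset.sum_le_sum_of_subset Finset.subset_union_right)
  rw [if_pos (hs p hp), term]
  refine le_mul_of_one_le_left zero_le ?_
  rw [Ring.ord, Order.one_le_iff_pos, Module.length_pos_iff, Ideal.Quotient.nontrivial_iff]
  intro htop
  have hu : IsUnit (Ideal.Quotient.mk p.asIdeal x) := Ideal.span_singleton_eq_top.1 htop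
  haveI : IsLocalHom (Ideal.Quotient.mk p.asIdeal) :=
    IsLocalHom.of_surjective _ Ideal.Quotient.mk_surjective
  exact (mem_maximalIdeal _).1 hx (isUnit_of_map_unit _ x hu)

end Groth.Agent.H25.Special.Algebra
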