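import Groth.Prelude.Def_FDesc
import Groth.Agent.H46.FiberStalk
import Groth.Agent.Lib.DerivedOX.PullbackStalk
import Mathlib.LinearAlgebra.TensorProduct.Quotient
import Mathlib.RingTheory.Ideal.AssociatedPrime.Basic
import Mathlib.RingTheory.DiscreteValuationRing.Basic
import Mathlib.AlgebraicGeometry.FunctionField

/-!
# Stalks of the restriction of a module to a fibre
-/

set_option autoImplicit false
set_option linter.style.haveILetI false
universe u

open CategoryTheory AlgebraicGeometry IsLocalRing TensorProduct Pointwise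

namespace Groth.Agent.H25.Special.Fibres

variable {X Y : Scheme.{u}} (f : X ⟶ Y) (F : X.Modules) (y : Y) (z : f.fiber y)

/-- `m_y O_{X,x}` at the image of `z`. -/
noncomputable abbrev vanIdeal : Ideal (X.presheaf.stalk (f.fiberι y z)) :=
  (maximalIdeal (Y.presheaf.stalk (f (f.fiberι y z)))).map (f.stalkMap (f.fiberι y z)).hom

theorem stalk_fibre :
    Module.length ((f.fiber y).presheaf.stalk z)
        (((Scheme.Modules.pullback (f.fiberι y)).obj F).presheaf.stalk z) =
      Module.length (X.presheaf.stalk (f.fiberι y z))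
        (F.presheaf.stalk (f.fiberι y z) ⧸ vanIdeal f y z •
          (⊤ : Submodule (X.presheaf.stalk (f.fiberι y z)) (F.presheaf.stalk (f.fiberι y z)))) ∧
    (IsAssociatedPrime (maximalIdeal (X.presheaf.stalk (f.fiberι y z)))
        (F.presheaf.stalk (f.fiberι y z) ⧸ vanIdeal f y z •
          (⊤ : Submodule (X.presheaf.stalk (f.fiberι y z)) (F.presheaf.stalk (f.fiberι y z)))) →
      ∀ [IsNoetherianRing (X.presheaf.stalk (f.fiberι y z))],
      IsAssociatedPrime (maximalIdeal ((f.fiber y).presheaf.stalk z))
        (((Scheme.Modules.pullback (f.fiberι y)).obj F).presheaf.stalk z)) := by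
  let i := f.fiberι y
  let R := X.presheaf.stalk (i z)
  let B := (f.fiber y).presheaf.stalk z
  let φ : R →+* B := (i.stalkMap z).hom
  letI : Algebra R B := φ.toAlgebra
  have hφ : Function.Surjective (Algebra.ofId R B) := i.stalkMap_surjective z
  let N := ((Scheme.Modules.pullback i).obj F).presheaf.stalk z
  let e : B ⊗[R] F.presheaf.stalk (i z) ≃ₗ[B] N :=
    ((Lib.DerivedOX.PullbackStalk.pullbackStalkIso i z).app F).toLinearEquiv
  letI : Module R N := Module.compHom N φ
  haveI : IsScalarTower R B N := ⟨fun a b m => by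
    show (φ a * b) • m = φ a • b • m
    exact mul_smul _ _ _⟩
  have hI : vanIdeal f y z = RingHom.ker (Algebra.ofId R B) :=
    (H46.FiberStalk.ker_stalkMap_fiberι f y z).symm
  let eB : (R ⧸ vanIdeal f y z) ≃ₐ[R] B :=
    (Ideal.quotientEquivAlgOfEq R hI).trans (Ideal.quotientKerAlgEquivOfSurjective hφ)
  let E : (F.presheaf.stalk (i z) ⧸ vanIdeal f y z •
      (⊤ : Submodule R (F.presheaf.stalk (i z)))) ≃ₗ[R] N :=
    ((TensorProduct.quotTensorEquivQuotSMul (F.presheaf.stalk (i z)) (vanIdeal f y z)).symm.trans
      (TensorProduct.congr eB.toLinearEquiv (LinearEquiv.refl R _))).trans (e.restrictScalars R)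
  refine ⟨?_, fun hass hN => ?_⟩
  · rw [E.length_eq]
    exact (Module.length_eq_of_surjective (S := R) (R := B) (M := N) hφ).symm
  · haveI : IsNoetherianRing B := isNoetherianRing_of_surjective R B φ hφ
    obtain ⟨-, v, hv⟩ := isAssociatedPrime_iff.1 hass
    refine isAssociatedPrime_iff.2 ⟨(maximalIdeal.isMaximal B).isPrime, E v, ?_⟩
    ext b
    obtain ⟨a, rfl⟩ := hφ b
    rw [Submodule.mem_colon_singleton, Submodule.mem_bot]
    have h1 : φ a • E v = E (a • v) := (map_smul E a v).symm
    haveI : IsLocalHom φ := IsLocalHom.of_surjective _ hφ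
    have h2 : φ a ∈ maximalIdeal B ↔ a ∈ maximalIdeal R := by
      simp only [mem_maximalIdeal, mem_nonunits_iff]
      exact not_congr (isUnit_map_iff φ a)
    show φ a ∈ maximalIdeal B ↔ φ a • E v = 0
    rw [h2, h1, LinearEquiv.map_eq_zero_iff, hv, Submodule.mem_colon_singleton, Submodule.mem_bot]

theorem apply_fiberι : f (f.fiberι y z) = y := by
  have : f.fiberι y z ∈ f ⁻¹' {y} := by rw [← f.range_fiberι y]; exact ⟨z, rfl⟩
  exact this

/-- A parameter on the fibre over the closed point of a discrete valuation ring. -/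
theorem exists_parameter {A : Type u} [CommRing A] [IsDomain A] [IsDiscreteValuationRing A]
    (g : X ⟶ Spec (CommRingCat.of A)) (hflat : FlatMod.IsFlatOver g F) (x : X)
    (hx : g x = closedPoint A) :
    ∃ t ∈ maximalIdeal (X.presheaf.stalk x),
      (maximalIdeal ((Spec (CommRingCat.of A)).presheaf.stalk (g x))).map (g.stalkMap x).hom =
        Ideal.span {t} ∧ (∀ v : F.presheaf.stalk x, t • v = 0 → v = 0) ∧
      ∀ (w : X) (h : w ⤳ x), IsUnit (X.presheaf.stalkSpecializes h t) ↔ g w ≠ closedPoint A := by
  let P : PrimeSpectrum A := g x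
  let S := (Spec (CommRingCat.of A)).presheaf.stalk (g x)
  letI : Algebra A S := StructureSheaf.stalkAlgebra _ _
  haveI : IsLocalization.AtPrime S P.asIdeal :=
    StructureSheaf.IsLocalization.to_stalk _ _
  have hP : P.asIdeal = maximalIdeal A := congrArg PrimeSpectrum.asIdeal hx
  obtain ⟨ϖ, hϖ⟩ := IsDiscreteValuationRing.exists_irreducible A
  have hspan : maximalIdeal S = Ideal.span {algebraMap A S ϖ} := by
    rw [← IsLocalization.AtPrime.map_eq_maximalIdeal P.asIdeal S, hP,
      hϖ.maximalIdeal_eq, Ideal.map_span, Set.image_singleton]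
  have hinj : Function.Injective (algebraMap A S) :=
    IsLocalization.injective S P.asIdeal.primeCompl_le_nonZeroDivisors
  haveI : IsDomain S := IsLocalization.isDomain_of_le_nonZeroDivisors S
    P.asIdeal.primeCompl_le_nonZeroDivisors
  have h0 : algebraMap A S ϖ ≠ 0 := fun h => hϖ.ne_zero (hinj (h.trans (map_zero _).symm))
  have hm : algebraMap A S ϖ ∈ maximalIdeal S := hspan ▸ Ideal.mem_span_singleton_self _
  refine ⟨(g.stalkMap x).hom (algebraMap A S ϖ), (mem_maximalIdeal _).2 fun hu =>
    (mem_maximalIdeal _).1 hm (isUnit_of_map_unit (g.stalkMap x).hom _ hu),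
    by rw [hspan, Ideal.map_span, Set.image_singleton], fun v hv => ?_, fun w h => ?_⟩
  · letI := FlatMod.moduleStalkOver g F x
    have hfl : Module.Flat S (F.presheaf.stalk x) := hflat x
    have hreg : IsSMulRegular S (algebraMap A S ϖ) := fun a b hab =>
      mul_left_cancel₀ h0 hab
    refine (TensorProduct.rid S (F.presheaf.stalk x)).symm.injective
      ((hreg.lTensor (F.presheaf.stalk x)) ?_)
    show algebraMap A S ϖ • _ = algebraMap A S ϖ • _
    rw [← map_smul, ← map_smul, smul_zero]
    exact congrArg _ hv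
  · have hs : g w ⤳ g x := h.map g.continuous
    let Q : PrimeSpectrum A := g w
    let T := (Spec (CommRingCat.of A)).presheaf.stalk (g w)
    letI : Algebra A T := StructureSheaf.stalkAlgebra _ _
    haveI : IsLocalization.AtPrime T Q.asIdeal :=
      StructureSheaf.IsLocalization.to_stalk _ _
    have e1 : X.presheaf.stalkSpecializes h ((g.stalkMap x).hom (algebraMap A S ϖ)) =
        (g.stalkMap w).hom (algebraMap A T ϖ) := by
      rw [← CommRingCat.comp_apply]
      refine ((Scheme.Hom.stalkSpecializes_stalkMap_apply g w x h _).symm).trans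
        (congrArg (g.stalkMap w).hom ?_)
      exact congrArg (fun m => m.hom ϖ) (StructureSheaf.toStalk_stalkSpecializes (R := A) hs)
    rw [e1, isUnit_map_iff, IsLocalization.AtPrime.isUnit_to_map_iff T
      Q.asIdeal]
    show ϖ ∉ _ ↔ _
    constructor
    · intro hn he
      exact hn ((congrArg PrimeSpectrum.asIdeal (show Q = closedPoint A from he)).ge
        (hϖ.maximalIdeal_eq.ge (Ideal.mem_span_singleton_self ϖ)))
    · intro hne hmem
      refine hne (PrimeSpectrum.ext ((maximalIdeal.isMaximal A).eq_of_le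
        Q.isPrime.ne_top ?_).symm)
      rw [hϖ.maximalIdeal_eq, Ideal.span_singleton_le_iff_mem]
      exact hmem

/-- Over the generic point nothing vanishes. -/
theorem maximalIdeal_generic [IsIntegral Y] {x : X} (hx : f x = genericPoint Y) :
    (maximalIdeal (Y.presheaf.stalk (f x))).map (f.stalkMap x).hom = ⊥ := by
  have hF : IsField (Y.presheaf.stalk (f x)) := by
    rw [hx]
    exact (inferInstance : Field Y.functionField).toIsField
  rw [IsLocalRing.isField_iff_maximalIdeal_eq.1 hF, Ideal.map_bot]

end Groth.Agent.H25.Special.Fibres
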