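import Groth.Agent.Lib.StalkLoc.Basic
import Groth.Agent.Lib.Cyc.C1
import Mathlib.RingTheory.Length
import Mathlib.AlgebraicGeometry.Stalk

/-!
# Lengths of stalks at generalisations
-/

set_option autoImplicit false
set_option linter.style.haveILetI false
universe u

open CategoryTheory AlgebraicGeometry

namespace Groth.Agent.H25.Special.StalkLen

open Groth.Agent.Lib.StalkLoc.Basic

variable {X : Scheme.{u}} {x w : X} (h : w ⤳ x)

/-- The prime of `O_{X,x}` of a generalisation of `x`. -/
noncomputable def prime : PrimeSpectrum (X.presheaf.stalk x) :=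
  ⟨(IsLocalRing.maximalIdeal (X.presheaf.stalk w)).comap (X.presheaf.stalkSpecializes h).hom,
    Ideal.IsPrime.comap _⟩

theorem notMem_prime {s : X.presheaf.stalk x} (hs : s ∉ (prime h).asIdeal) :
    IsUnit (X.presheaf.stalkSpecializes h s) :=
  not_not.1 fun hu => hs ((IsLocalRing.mem_maximalIdeal _).2 hu)

theorem fromSpecStalk_prime : X.fromSpecStalk x (prime h) = w := by
  have e : Spec.map (X.presheaf.stalkSpecializes h)
      (IsLocalRing.closedPoint (X.presheaf.stalk w)) = prime h := rfl
  have h2 := congrArg (fun m : Spec (X.presheaf.stalk w) ⟶ X => m (IsLocalRing.closedPoint _))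
    (Scheme.SpecMap_stalkSpecializes_fromSpecStalk h)
  exact (congrArg (X.fromSpecStalk x) e).symm.trans (h2.trans Scheme.fromSpecStalk_closedPoint)

theorem prime_injective {w' : X} (h' : w' ⤳ x) (e : prime h = prime h') : w = w' := by
  rw [← fromSpecStalk_prime h, e, fromSpecStalk_prime h']

theorem prime_fromSpecStalk (p : PrimeSpectrum (X.presheaf.stalk x))
    (hp : X.fromSpecStalk x p ⤳ x) : prime hp = p :=
  (X.fromSpecStalk x).isEmbedding.injective (fromSpecStalk_prime hp)

variable (M : X.Modules) [M.IsQuasicoherent]

/-- The length at a generalisation is at most the length of the localisation of the stalk. -/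
theorem length_le :
    Module.length (X.presheaf.stalk w) (M.presheaf.stalk w) ≤
      Module.length (Localization.AtPrime (prime h).asIdeal)
        (LocalizedModule (prime h).asIdeal.primeCompl (M.presheaf.stalk x)) := by
  let R := X.presheaf.stalk x
  let S := (prime h).asIdeal.primeCompl
  let σ := X.presheaf.stalkSpecializes h
  letI : Module R (M.presheaf.stalk w) := Module.compHom _ σ.hom
  let τ : M.presheaf.stalk x →ₗ[R] M.presheaf.stalk w :=
    { toFun := M.presheaf.stalkSpecializes h
      map_add' := map_add _
      map_smul' := fun r v => Lib.Cyc.C1.stalkSpecializes_smul M h r v }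
  have hunit : ∀ s : S, IsUnit ((algebraMap R (Module.End R (M.presheaf.stalk w))) s.1) :=
    fun s => (Module.End.isUnit_iff _).2 (notMem_prime h s.2).smul_bijective
  let L : LocalizedModule S (M.presheaf.stalk x) →ₗ[R] M.presheaf.stalk w :=
    LocalizedModule.lift S τ hunit
  have hLs : Function.Surjective L := by
    intro v
    obtain ⟨U, hU, hx, -⟩ := exists_isAffineOpen_mem_and_subset (x := x) (U := ⊤) trivial
    have hw : w ∈ U := h.mem_open U.2 hx
    obtain ⟨f, t, hf, e⟩ := exists_smul_eq_germ hU hw v
    have hσ : σ (X.presheaf.germ U x hx f) = X.presheaf.germ U w hw f :=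
      TopCat.Presheaf.germ_stalkSpecializes_apply _ hx h f
    have hτ : τ (M.presheaf.germ U x hx t) = M.presheaf.germ U w hw t :=
      TopCat.Presheaf.germ_stalkSpecializes_apply _ hx h t
    have hfS : X.presheaf.germ U x hx f ∈ S := fun hmem => by
      have hu := (X.mem_basicOpen f w hw).1 hf
      rw [← hσ] at hu
      exact (IsLocalRing.mem_maximalIdeal _).1 (Ideal.mem_comap.1 hmem) hu
    refine ⟨LocalizedModule.mk (M.presheaf.germ U x hx t) ⟨_, hfS⟩, ?_⟩
    apply ((notMem_prime h hfS).smul_left_cancel).1
    show (X.presheaf.germ U x hx f : R) • L _ = σ (X.presheaf.germ U x hx f) • v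
    rw [← map_smul, LocalizedModule.smul'_mk,
      show LocalizedModule.mk ((X.presheaf.germ U x hx f : R) • M.presheaf.germ U x hx t)
          (⟨_, hfS⟩ : S) = LocalizedModule.mk (M.presheaf.germ U x hx t) 1 from
        LocalizedModule.mk_cancel (⟨_, hfS⟩ : S) _, hσ, e, ← hτ]
    exact LinearMap.congr_fun (LocalizedModule.lift_comp S τ hunit) _
  let P : Submodule (X.presheaf.stalk w) (M.presheaf.stalk w) →
      Submodule (Localization.AtPrime (prime h).asIdeal)
        (LocalizedModule S (M.presheaf.stalk x)) := fun Q =>
    { carrier := L ⁻¹' (Q : Set (M.presheaf.stalk w))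
      add_mem' := fun {a b} ha hb => by
        show L (a + b) ∈ Q
        rw [map_add]; exact Q.add_mem ha hb
      zero_mem' := by show L 0 ∈ Q; rw [map_zero]; exact Q.zero_mem
      smul_mem' := fun c a ha => by
        obtain ⟨⟨r, s⟩, hc⟩ := IsLocalization.surj (prime h).asIdeal.primeCompl c
        show L (c • a) ∈ Q
        have h1 : σ.hom s.1 • L (c • a) = σ.hom r • L a := by
          show (s.1 : R) • L (c • a) = r • L a
          rw [← map_smul, ← map_smul, ← algebraMap_smul (Localization.AtPrime (prime h).asIdeal) s.1,
            ← mul_smul, mul_comm, hc, algebraMap_smul]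
        have h2 : σ.hom r • L a ∈ Q := Q.smul_mem _ ha
        rw [← h1] at h2
        exact (Q.smul_mem_iff_of_isUnit (notMem_prime h s.2)).1 h2 }
  have hP : StrictMono P := fun Q Q' hlt => by
    refine lt_of_le_of_ne (fun a ha => hlt.le ha) fun e => hlt.ne (le_antisymm hlt.le fun v hv => ?_)
    obtain ⟨a, rfl⟩ := hLs v
    exact (e.ge hv : _)
  have := Order.krullDim_le_of_strictMono P hP
  rw [← Module.coe_length, ← Module.coe_length] at this
  exact WithBot.coe_le_coe.1 this

end Groth.Agent.H25.Special.StalkLen
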