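import Groth.Agent.H25.Special.Algebra
import Groth.Agent.H25.Special.StalkLen
import Groth.Agent.H25.Special.Fibres
import Groth.Agent.Lib.StalkLoc.AssStalk
import Groth.Agent.Lib.Cyc.FP.Stalk
import Groth.Agent.Lib.Cyc.DimFun
import Groth.Agent.Lib.Modules.SupportOps
import Groth.Agent.Lib.Modules.Support
import Mathlib.AlgebraicGeometry.Noetherian
import Mathlib.AlgebraicGeometry.Morphisms.Proper
import Mathlib.AlgebraicGeometry.Pullbacks
import Mathlib.AlgebraicGeometry.Morphisms.FiniteType

/-!
# The lengths of the generic fibre are bounded by those of the special fibre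
-/

set_option autoImplicit false
set_option linter.style.haveILetI false
universe u

open CategoryTheory AlgebraicGeometry IsLocalRing Pointwise

namespace Groth.Agent.H25.Special.Main

open Groth.Agent.Lib

/-- Maximal points of the support. -/
def MaxSupp {X : Scheme.{u}} (F : X.Modules) (v : X) : Prop :=
  Nontrivial (F.presheaf.stalk v) ∧
    ∀ w : X, Nontrivial (F.presheaf.stalk w) → v ∈ closure {w} → w = v

theorem nontrivial_of_ass {X : Scheme.{u}} {F : X.Modules} [IsLocallyNoetherian X] {a : X}
    (ha : a ∈ AssSch.Ass F) : Nontrivial (F.presheaf.stalk a) := by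
  obtain ⟨hp, v, hv⟩ := isAssociatedPrime_iff.1 (show IsAssociatedPrime _ _ from ha)
  refine ⟨⟨v, 0, fun h => hp.ne_top ?_⟩⟩
  rw [hv, h]
  exact (Ideal.eq_top_iff_one _).2 (Submodule.mem_colon_singleton.2 (by simp))

theorem maxSupp_of_ass {X : Scheme.{u}} {F : X.Modules} [IsLocallyNoetherian X] [F.IsQuasicoherent]
    (hemb : AssSch.NoEmbedded F) {a : X} (ha : a ∈ AssSch.Ass F) : MaxSupp F a := by
  refine ⟨nontrivial_of_ass ha, fun w hw hwa => ?_⟩
  have hwa' : w ⤳ a := specializes_iff_mem_closure.2 hwa
  obtain ⟨b, hb, hbw⟩ := StalkLoc.AssStalk.exists_ass_specializes hw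
  have := hemb a ha b hb (hbw.trans hwa')
  exact (hwa'.antisymm (this ▸ hbw)).eq

theorem ass_of_maxSupp {X : Scheme.{u}} {F : X.Modules} [IsLocallyNoetherian X] [F.IsQuasicoherent]
    {a : X} (ha : MaxSupp F a) : a ∈ AssSch.Ass F := by
  obtain ⟨b, hb, hba⟩ := StalkLoc.AssStalk.exists_ass_specializes ha.1
  exact ha.2 b (nontrivial_of_ass hb) (specializes_iff_mem_closure.1 hba) ▸ hb

theorem finite_maxSupp {X : Scheme.{u}} [IsNoetherian X] {F : X.Modules}
    (h : IsClosed (CohB1.support F)) : Finite {v : X // MaxSupp F v} := by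
  refine ((Cyc.DimFun.finite_maxPts h).subset ?_).to_subtype
  intro v hv
  exact ⟨not_subsingleton_iff_nontrivial.2 hv.1, fun w hw hwv =>
    hv.2 w (not_subsingleton_iff_nontrivial.1 hw) (specializes_iff_mem_closure.1 hwv)⟩

theorem exists_maximal {X : Type u} [TopologicalSpace X] [T0Space X] [QuasiSober X] {K : Set X}
    (hK : IsClosed K) {k : X} (hk : k ∈ K) : ∃ η ∈ K, ∀ w ∈ K, w ⤳ η → w = η := by
  haveI : QuasiSober K := hK.isClosedEmbedding_subtypeVal.quasiSober
  let C := irreducibleComponent (⟨k, hk⟩ : K)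
  obtain ⟨η, hη⟩ := QuasiSober.sober (isIrreducible_irreducibleComponent (x := (⟨k, hk⟩ : K)))
    isClosed_irreducibleComponent
  refine ⟨η.1, η.2, fun w hw hwη => ?_⟩
  have hs : (⟨w, hw⟩ : K) ⤳ η := (subtype_specializes_iff _ _).2 hwη
  have hsub : closure {η} ⊆ closure {(⟨w, hw⟩ : K)} :=
    closure_minimal (Set.singleton_subset_iff.2 (specializes_iff_mem_closure.1 hs)) isClosed_closure
  have heq : closure {(⟨w, hw⟩ : K)} = closure {η} := by
    rw [hη.def] at hsub ⊢
    exact (irreducibleComponent_property (⟨k, hk⟩ : K)).2.2 _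
      isIrreducible_singleton.closure.isPreirreducible hsub
  exact congrArg Subtype.val ((specializes_iff_mem_closure.2
    (heq.ge (subset_closure rfl))).antisymm (specializes_iff_mem_closure.2
      (heq.le (subset_closure rfl)))).eq

variable {A : Type u} [CommRing A] [IsDomain A] [IsDiscreteValuationRing A] {X : Scheme.{u}}
  (f : X ⟶ Spec (CommRingCat.of A)) [IsProper f] (F : X.Modules) (hF : Coh.IsCoh F)

omit [IsDomain A] [IsDiscreteValuationRing A] [IsProper f] in
include hF in
theorem support_fibre (y : Spec (CommRingCat.of A)) (v : f.fiber y) :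
    Nontrivial (((Scheme.Modules.pullback (f.fiberι y)).obj F).presheaf.stalk v) ↔
      Nontrivial (F.presheaf.stalk (f.fiberι y v)) := by
  haveI := hF.2
  rw [← not_subsingleton_iff_nontrivial, ← not_subsingleton_iff_nontrivial]
  exact (Set.ext_iff.1 (Modules.SupportOps.support_pullback (f.fiberι y) F) v)

include hF in
theorem sum_lengths_le (hflat : FlatMod.IsFlatOver f F)
    (hemb : AssSch.NoEmbedded ((Scheme.Modules.pullback (f.fiberι (closedPoint A))).obj F)) :
    ∑ᶠ z' : {v : f.fiber (genericPoint (Spec (CommRingCat.of A))) //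
        MaxSupp ((Scheme.Modules.pullback (f.fiberι (genericPoint (Spec (CommRingCat.of A))))).obj F) v},
        Module.length ((f.fiber _).presheaf.stalk z'.1)
          (((Scheme.Modules.pullback (f.fiberι _)).obj F).presheaf.stalk z'.1) ≤
      ∑ᶠ z : {v : f.fiber (closedPoint A) //
        MaxSupp ((Scheme.Modules.pullback (f.fiberι (closedPoint A))).obj F) v},
        Module.length ((f.fiber _).presheaf.stalk z.1)
          (((Scheme.Modules.pullback (f.fiberι _)).obj F).presheaf.stalk z.1) := by
  classical
  set y : ↥(Spec (CommRingCat.of A)) := closedPoint A with hy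
  set y' : ↥(Spec (CommRingCat.of A)) := genericPoint (Spec (CommRingCat.of A)) with hy'
  haveI := hF.1
  haveI := hF.2
  haveI : IsNoetherianRing (CommRingCat.of A) := inferInstanceAs (IsNoetherianRing A)
  haveI : IsLocallyNoetherian X := LocallyOfFiniteType.isLocallyNoetherian f
  have hcompact : CompactSpace X :=
    QuasiCompact.compactSpace_of_compactSpace f
  haveI : IsNoetherian X := { }
  have hne : y' ≠ y := by
    intro h
    have h1 : (genericPoint (Spec (CommRingCat.of A)) : PrimeSpectrum A).asIdeal = ⊥ :=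
      congrArg PrimeSpectrum.asIdeal (genericPoint_eq_bot_of_affine (CommRingCat.of A))
    exact IsDiscreteValuationRing.not_a_field A
      ((congrArg PrimeSpectrum.asIdeal h).symm.trans h1)
  have hgen : ∀ w : Spec (CommRingCat.of A), w ⤳ y' → w = y' := fun w h =>
    (h.antisymm (genericPoint_specializes w)).eq
  haveI hn1 : ∀ s, IsNoetherian (f.fiber s) := fun s => by
    haveI : IsNoetherianRing ((Spec (CommRingCat.of A)).residueField s) := inferInstance
    haveI : IsLocallyNoetherian (f.fiber s) :=
      haveI : LocallyOfFiniteType (f.fiberToSpecResidueField s) :=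
        MorphismProperty.of_isPullback (IsPullback.of_hasPullback f
          ((Spec (CommRingCat.of A)).fromSpecResidueField s)) inferInstance
      LocallyOfFiniteType.isLocallyNoetherian (f.fiberToSpecResidueField s)
    exact { }
  have hcl : ∀ s, IsClosed (CohB1.support ((Scheme.Modules.pullback (f.fiberι s)).obj F)) := fun s => by
    rw [Modules.SupportOps.support_pullback]
    exact (Modules.Support.isClosed_support F).preimage (f.fiberι s).continuous
  haveI hfin := fun s => finite_maxSupp (hcl s)
  haveI : ((Scheme.Modules.pullback (f.fiberι y)).obj F).IsQuasicoherent :=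
    (Cyc.FP.Stalk.isCoh_pullback (f.fiberι y) hF).1
  let G := {v : f.fiber y' // MaxSupp ((Scheme.Modules.pullback (f.fiberι y')).obj F) v}
  let S := {v : f.fiber y // MaxSupp ((Scheme.Modules.pullback (f.fiberι y)).obj F) v}
  -- points of the generic fibre are maximal in the support of `F`
  have hmaxG : ∀ z' : G, MaxSupp F (f.fiberι y' z'.1) := fun z' => by
    refine ⟨(support_fibre f F hF y' _).1 z'.2.1, fun w hw hwz => ?_⟩
    have hwz' := specializes_iff_mem_closure.2 hwz
    have h1 : f w = y' := hgen _ (Fibres.apply_fiberι f y' z'.1 ▸ hwz'.map f.continuous)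
    obtain ⟨a, rfl⟩ : w ∈ Set.range (f.fiberι y') := by rw [f.range_fiberι y']; exact h1
    rw [z'.2.2 a ((support_fibre f F hF y' _).2 hw) (specializes_iff_mem_closure.1
      ((f.fiberι y').isEmbedding.isInducing.specializes_iff.1 hwz'))]
  -- each specialises to one of the special fibre
  have hspec : ∀ z' : G, ∃ z : S, f.fiberι y' z'.1 ⤳ f.fiberι y z.1 := fun z' => by
    set x' := f.fiberι y' z'.1 with hx'
    obtain ⟨k, hk, hky⟩ : ∃ k ∈ closure {x'}, f k = y := by
      have hc : IsClosed (f '' closure {x'}) := f.isClosedMap _ isClosed_closure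
      have hmem : f x' ∈ f '' closure {x'} := ⟨x', subset_closure rfl, rfl⟩
      rw [hx', Fibres.apply_fiberι] at hmem
      have := (genericPoint_specializes (α := Spec (CommRingCat.of A)) y).mem_closed hc hmem
      exact this
    have hycl : IsClosed ({y} : Set (Spec (CommRingCat.of A))) :=
      IsLocalRing.isClosed_singleton_closedPoint A
    obtain ⟨η, ⟨hηx, hηy⟩, hηmax⟩ := exists_maximal
      (K := closure {x'} ∩ f ⁻¹' {y}) (isClosed_closure.inter (hycl.preimage f.continuous))
      (k := k) ⟨hk, hky⟩
    obtain ⟨z, rfl⟩ : η ∈ Set.range (f.fiberι y) := by rw [f.range_fiberι y]; exact hηy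
    have hsp : x' ⤳ f.fiberι y z := specializes_iff_mem_closure.2 hηx
    obtain ⟨t, htm, htI, hreg, hunit⟩ := Fibres.exists_parameter F f hflat (f.fiberι y z) hηy
    haveI := Modules.GenStalk.finite_stalk F (f.fiberι y z)
    have hp : (StalkLen.prime hsp).asIdeal ∈
        associatedPrimes (X.presheaf.stalk (f.fiberι y z)) (F.presheaf.stalk (f.fiberι y z)) := by
      refine (StalkLoc.AssStalk.mem_associatedPrimes_stalk_iff _ (StalkLen.prime hsp)).2 ?_
      rw [StalkLen.fromSpecStalk_prime]
      exact ass_of_maxSupp (hmaxG z')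
    have hass := Algebra.maximal_mem_ass htm hreg hp fun q hq hpq htq => by
      let Q : PrimeSpectrum (X.presheaf.stalk (f.fiberι y z)) := ⟨q, hq⟩
      let w := X.fromSpecStalk (f.fiberι y z) Q
      have hw1 : w ⤳ f.fiberι y z :=
        (Scheme.range_fromSpecStalk (X := X) (x := f.fiberι y z)).le ⟨_, rfl⟩
      have hw2 : x' ⤳ w := by
        rw [← StalkLen.fromSpecStalk_prime hsp]
        exact ((PrimeSpectrum.le_iff_specializes _ Q).1 hpq).map (X.fromSpecStalk _).continuous
      have hwy : f w = y := by_contra fun hne' => by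
        have hu := (hunit w hw1).2 hne'
        have : t ∈ (StalkLen.prime hw1).asIdeal := by
          rw [StalkLen.prime_fromSpecStalk Q hw1]; exact htq
        exact (mem_maximalIdeal _).1 (Ideal.mem_comap.1 this) hu
      exact (StalkLoc.AssStalk.closedPoint_eq_iff Q).1
        (hηmax w ⟨specializes_iff_mem_closure.1 hw2, hwy⟩ hw1)
    have hz : z ∈ AssSch.Ass ((Scheme.Modules.pullback (f.fiberι y)).obj F) := by
      refine (Fibres.stalk_fibre f F y z).2 ?_
      rw [Fibres.vanIdeal, htI, Submodule.ideal_span_singleton_smul]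
      exact hass
    exact ⟨⟨z, maxSupp_of_ass hemb hz⟩, hsp⟩
  -- the local inequality
  have hloc : ∀ z : S, ∀ s : Finset G, (∀ z' ∈ s, f.fiberι y' z'.1 ⤳ f.fiberι y z.1) →
      ∑ z' ∈ s, Module.length ((f.fiber y').presheaf.stalk z'.1)
          (((Scheme.Modules.pullback (f.fiberι y')).obj F).presheaf.stalk z'.1) ≤
        Module.length ((f.fiber y).presheaf.stalk z.1)
          (((Scheme.Modules.pullback (f.fiberι y)).obj F).presheaf.stalk z.1) := by
    intro z s hs
    have hfz : f (f.fiberι y z.1) = y := Fibres.apply_fiberι f y z.1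
    obtain ⟨t, htm, htI, hreg, hunit⟩ := Fibres.exists_parameter F f hflat (f.fiberι y z.1) hfz
    haveI := Modules.GenStalk.finite_stalk F (f.fiberι y z.1)
    rw [(Fibres.stalk_fibre f F y z.1).1, Fibres.vanIdeal, htI,
      Submodule.ideal_span_singleton_smul]
    have h0 : ∀ p ∈ Module.support (X.presheaf.stalk (f.fiberι y z.1)) (F.presheaf.stalk (f.fiberι y z.1)),
        t ∈ p.asIdeal → p.asIdeal = maximalIdeal _ := by
      intro p hp htp
      let w := X.fromSpecStalk (f.fiberι y z.1) p
      have hw1 : w ⤳ f.fiberι y z.1 :=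
        (Scheme.range_fromSpecStalk (X := X) (x := f.fiberι y z.1)).le ⟨_, rfl⟩
      have hwy : f w = y := by_contra fun hne' => by
        have hu := (hunit w hw1).2 hne'
        have : t ∈ (StalkLen.prime hw1).asIdeal := by
          rw [StalkLen.prime_fromSpecStalk p hw1]; exact htp
        exact (mem_maximalIdeal _).1 (Ideal.mem_comap.1 this) hu
      obtain ⟨q, hq, hqp⟩ : ∃ q : PrimeSpectrum (X.presheaf.stalk (f.fiberι y z.1)),
          q.asIdeal ∈ associatedPrimes _ (F.presheaf.stalk (f.fiberι y z.1)) ∧
            q.asIdeal ≤ p.asIdeal := by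
        rw [Module.mem_support_iff_of_finite] at hp
        obtain ⟨q, hq, hqp⟩ := Ideal.exists_minimalPrimes_le hp
        exact ⟨⟨q, hq.1.1⟩,
          Module.associatedPrimes.minimalPrimes_annihilator_subset_associatedPrimes _ _ hq, hqp⟩
      have hwa : X.fromSpecStalk (f.fiberι y z.1) q ⤳ w :=
        ((PrimeSpectrum.le_iff_specializes q p).1 hqp).map (X.fromSpecStalk _).continuous
      have hnt : Nontrivial (F.presheaf.stalk w) :=
        not_subsingleton_iff_nontrivial.1 (hwa.mem_closed (Modules.Support.isClosed_support F)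
          (not_subsingleton_iff_nontrivial.2
            (nontrivial_of_ass ((StalkLoc.AssStalk.mem_associatedPrimes_stalk_iff _ q).1 hq))))
      obtain ⟨a, ha⟩ : w ∈ Set.range (f.fiberι y) := by rw [f.range_fiberι y]; exact hwy
      have hnt' : Nontrivial (((Scheme.Modules.pullback (f.fiberι y)).obj F).presheaf.stalk a) :=
        (support_fibre f F hF y a).2 (ha.symm ▸ hnt)
      have := z.2.2 a hnt' (specializes_iff_mem_closure.1
        ((f.fiberι y).isEmbedding.isInducing.specializes_iff.1 (ha.symm ▸ hw1)))
      refine (StalkLoc.AssStalk.closedPoint_eq_iff p).1 ?_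
      exact ha.symm.trans (congrArg (f.fiberι y) this)
    let P : {z' // z' ∈ s} → PrimeSpectrum (X.presheaf.stalk (f.fiberι y z.1)) := fun z' =>
      StalkLen.prime (hs z'.1 z'.2)
    have hPinj : Function.Injective P := fun a b e => Subtype.ext (Subtype.ext
      ((f.fiberι y').isEmbedding.injective (StalkLen.prime_injective _ _ e)))
    refine le_trans ?_ (Algebra.sum_le htm hreg h0 (s.attach.map ⟨P, hPinj⟩) ?_)
    · rw [Finset.sum_map, ← Finset.sum_attach]
      refine Finset.sum_le_sum fun z' _ => ?_
      rw [(Fibres.stalk_fibre f F y' z'.1.1).1, Fibres.vanIdeal,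
        Fibres.maximalIdeal_generic f (Fibres.apply_fiberι f y' z'.1.1), Submodule.bot_smul,
        (Submodule.quotEquivOfEqBot _ rfl).length_eq]
      exact StalkLen.length_le (hs z'.1 z'.2) F
    · intro p hp hm
      obtain ⟨z', -, rfl⟩ := Finset.mem_map.1 hp
      have hx := (StalkLoc.AssStalk.closedPoint_eq_iff _).2 hm
      replace hx := (StalkLen.fromSpecStalk_prime (hs z'.1 z'.2)).symm.trans hx
      exact hne (by rw [← Fibres.apply_fiberι f y' z'.1.1, hx, hfz])
  -- summing up
  choose φ hφ using hspec
  cases nonempty_fintype G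
  cases nonempty_fintype S
  rw [finsum_eq_sum_of_fintype, finsum_eq_sum_of_fintype,
    ← Finset.sum_fiberwise Finset.univ φ]
  exact Finset.sum_le_sum fun z _ => hloc z _ fun z' hz' =>
    (Finset.mem_filter.1 hz').2 ▸ hφ z'

end Groth.Agent.H25.Special.Main
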